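import Groth.Agent.H4Sk.Generic
import Groth.Agent.S2612

/-!
# Normal flatness along nilpotent ideals, localized
-/

set_option autoImplicit false
set_option linter.style.haveILetI false
set_option backward.isDefEq.respectTransparency false
set_option backward.isDefEq.respectTransparency.types false

open TensorProduct IsLocalRing

namespace Groth.Agent.H4Sk

universe u

open NFlat6

variable {A : Type u} [CommRing A] [IsNoetherianRing A] (I : Ideal A) (M : Type u) [AddCommGroup M] [Module A M]
  [Module.Finite A M]

/-- Normal flatness localizes. -/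
theorem nf_atPrime (hM : EGA4.IsNormallyFlat I M) (q : Ideal A) [q.IsPrime] :
    EGA4.IsNormallyFlat (I.map (algebraMap A (Localization.AtPrime q))) (LocalizedModule q.primeCompl M) := by
  intro n
  let Aq := Localization.AtPrime q
  let M' := LocalizedModule q.primeCompl M
  let Rf := Localization.Away (Ideal.Quotient.mk I (1 : A))
  haveI := hM n
  obtain ⟨e₁⟩ := GenNFlat.exists_pcEquiv I Aq M' n
  let g₀ := pcMap (R := I) (LocalizedModule.mkLinearMap q.primeCompl M) n
  haveI := isLocalizedModule_pcMap (R := I) q.primeCompl (LocalizedModule.mkLinearMap q.primeCompl M) n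
  let g := e₁.toLinearMap ∘ₗ g₀
  haveI : IsLocalizedModule q.primeCompl g := IsLocalizedModule.of_linearEquiv _ g₀ e₁
  exact flat_atPrime_piece I (1 : A) q (fun h => (Ideal.IsPrime.ne_top ‹q.IsPrime›) ((Ideal.eq_top_iff_one _).2 h))
    (Pc I M n) _ g inferInstance

/-- At every prime, dimension and depth are those of the quotient. -/
theorem dim_depth_nilpotent (hI : IsNilpotent I) (hsupp : Module.support A M = Set.univ)
    (hM : EGA4.IsNormallyFlat I M) (q : Ideal A) [q.IsPrime] :
    Module.supportDim (Localization.AtPrime q) (LocalizedModule q.primeCompl M) =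
        Module.supportDim (Localization.AtPrime q) (LocalizedModule q.primeCompl (A ⧸ I)) ∧
      LocCoh.depth (Localization.AtPrime q) (LocalizedModule q.primeCompl M) =
        LocCoh.depth (Localization.AtPrime q) (LocalizedModule q.primeCompl (A ⧸ I)) := by
  let C := Localization.AtPrime q
  haveI : Nontrivial (LocalizedModule q.primeCompl M) :=
    Module.mem_support_iff.1 (show (⟨q, inferInstance⟩ : PrimeSpectrum A) ∈ Module.support A M from
      hsupp ▸ Set.mem_univ _)
  haveI : Module.Finite C (LocalizedModule q.primeCompl M) :=
    Module.Finite.of_isLocalizedModule q.primeCompl (LocalizedModule.mkLinearMap _ M)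
  have hI' : IsNilpotent (I.map (algebraMap A C)) := by
    obtain ⟨k, hk⟩ := hI
    exact ⟨k, by rw [← Ideal.map_pow, hk, Ideal.zero_eq_bot, Ideal.map_bot]; rfl⟩
  obtain ⟨h1, h2⟩ := S2612.result C _ hI' _ (nf_atPrime I M hM q)
  let f := Algebra.linearMap A C
  have he : (I : Submodule A A).localized' C q.primeCompl f = (I.map (algebraMap A C) : Submodule C C) :=
    Ideal.localized'_eq_map _ _ _
  refine ⟨?_, h2.trans (depth_localized_quot_ring q I)⟩
  rw [h1, ← Module.supportDim_quotient_eq_ringKrullDim,
    ← Module.supportDim_eq_of_equiv (Submodule.quotEquivOfEq _ _ he)]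
  exact Alg6.supportDim_localized_eq q C ((I : Submodule A A).toLocalizedQuotient' C q.primeCompl f)

end Groth.Agent.H4Sk
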